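import Groth.Agent.Lib.LinProj.Cover
import Groth.Agent.Lib.Chow.Prod

/-!
# Hypersurfaces avoiding points, over a general base ring
-/

universe u

set_option backward.isDefEq.respectTransparency false
set_option linter.all false

open AlgebraicGeometry CategoryTheory TopologicalSpace

noncomputable section

namespace GrothLib.AffCover20

variable {n : ℕ} {k : Type u} [CommRing k]

theorem exists_notMem (x : CohB1.ProjSpace n k) :
    ∃ b ∈ CohB1.polyGrading n k 1, b ∉ x.asHomogeneousIdeal := by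
  obtain ⟨i, hi⟩ := Opens.mem_iSup.mp ((Ample.ProjMap.iSup_basicOpen_X n k).ge (Opens.mem_top x))
  exact ⟨_, Ample.ProjMap.X_mem i, hi⟩

theorem noetherianSpace_projSpace [IsNoetherianRing k] : NoetherianSpace (CohB1.ProjSpace n k) := by
  haveI := Chow.isProper_toSpec n k
  haveI := LocallyOfFiniteType.isLocallyNoetherian (CohB1.ProjSpace.toSpec n k)
  haveI : CompactSpace (CohB1.ProjSpace n k) := QuasiCompact.compactSpace_of_compactSpace (CohB1.ProjSpace.toSpec n k)
  haveI : IsNoetherian (CohB1.ProjSpace n k) := {}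
  infer_instance

/-- Raising to positive degree. -/
theorem exists_pos_degree {y : CohB1.ProjSpace n k} {d : ℕ} {a : MvPolynomial (Fin (n + 1)) k}
    (ha : a.IsHomogeneous d) (hy : a ∉ y.asHomogeneousIdeal) :
    ∃ (e : ℕ) (b : MvPolynomial (Fin (n + 1)) k), 0 < e ∧ (a * b).IsHomogeneous e ∧
      a * b ∉ y.asHomogeneousIdeal := by
  obtain ⟨x, hx, hxy⟩ := exists_notMem y
  exact ⟨d + 1, x, Nat.succ_pos _, ha.mul hx, fun h => (y.isPrime.mem_or_mem h).elim hy hxy⟩

/-- A homogeneous form vanishing on a closed set, off finitely many given points outside it. -/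
theorem exists_hom_avoid {W : Set (CohB1.ProjSpace n k)} (hW : IsClosed W) (T : Set (CohB1.ProjSpace n k))
    (hT : T.Finite) (hTW : Disjoint T W) :
    ∃ (d : ℕ) (h : MvPolynomial (Fin (n + 1)) k), 0 < d ∧ h.IsHomogeneous d ∧
      Disjoint {x | h ∉ x.asHomogeneousIdeal} W ∧
      T ⊆ {x | h ∉ x.asHomogeneousIdeal} := by
  classical
  let P := CohB1.polyGrading n k
  let T' := hT.toFinset.filter fun y => ∀ z ∈ hT.toFinset,
    y.asHomogeneousIdeal ≤ z.asHomogeneousIdeal → z = y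
  have hmax : ∀ z ∈ T, ∃ y ∈ T', z.asHomogeneousIdeal ≤ y.asHomogeneousIdeal := fun z hz => by
    obtain ⟨I, hzI, hI⟩ := (hT.toFinset.image fun y => y.asHomogeneousIdeal).exists_le_maximal
      (Finset.mem_image_of_mem _ (hT.mem_toFinset.2 hz))
    obtain ⟨y, hy, rfl⟩ := Finset.mem_image.1 hI.1
    exact ⟨y, Finset.mem_filter.2 ⟨hy, fun w hw hyw => (ProjectiveSpectrum.ext
      (le_antisymm hyw (hI.2 (Finset.mem_image_of_mem _ hw) hyw))).symm⟩, hzI⟩
  have hf : ∀ y ∈ T', ∃ (e : ℕ) (f : MvPolynomial (Fin (n + 1)) k), f.IsHomogeneous e ∧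
      f ∉ y.asHomogeneousIdeal ∧ Disjoint {x : CohB1.ProjSpace n k | f ∉ x.asHomogeneousIdeal} W := fun y hy => by
    obtain ⟨_, ⟨f, rfl⟩, hyf, hfW⟩ := (ProjectiveSpectrum.isTopologicalBasis_basic_opens P).exists_subset_of_mem_open
      (show y ∈ Wᶜ from Set.disjoint_left.1 hTW (hT.mem_toFinset.1 (Finset.mem_filter.1 hy).1)) hW.isOpen_compl
    rw [SetLike.mem_coe, ProjectiveSpectrum.basicOpen_eq_union_of_projection, Opens.mem_iSup] at hyf
    obtain ⟨e, he⟩ := hyf
    refine ⟨e, GradedRing.proj P e f, (DirectSum.decompose P f e).2, he, Set.disjoint_left.2 fun x hx => hfW ?_⟩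
    rw [SetLike.mem_coe, ProjectiveSpectrum.basicOpen_eq_union_of_projection, Opens.mem_iSup]
    exact ⟨e, hx⟩
  have hsep : ∀ y ∈ T', ∀ z ∈ T', z ≠ y → ∃ (e : ℕ) (a : MvPolynomial (Fin (n + 1)) k), a.IsHomogeneous e ∧
      a ∉ y.asHomogeneousIdeal ∧ a ∈ z.asHomogeneousIdeal := fun y hy z hz hzy => by
    have hnle : ¬ z.asHomogeneousIdeal ≤ y.asHomogeneousIdeal := fun h =>
      hzy ((Finset.mem_filter.1 hz).2 y (Finset.mem_filter.1 hy).1 h).symm
    obtain ⟨a, haz, hay⟩ := SetLike.not_le_iff_exists.1 hnle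
    obtain ⟨e, he⟩ : ∃ e, (DirectSum.decompose P a e : MvPolynomial (Fin (n + 1)) k) ∉ y.asHomogeneousIdeal := by
      by_contra hne
      push Not at hne
      refine hay ?_
      rw [← DirectSum.sum_support_decompose P a]
      exact Submodule.sum_mem _ fun e _ => hne e
    exact ⟨e, (DirectSum.decompose P a e : MvPolynomial (Fin (n + 1)) k), (DirectSum.decompose P a e).2, he,
      z.asHomogeneousIdeal.isHomogeneous e haz⟩
  have hg : ∀ y ∈ T', ∃ (e : ℕ) (g : MvPolynomial (Fin (n + 1)) k), 0 < e ∧ g.IsHomogeneous e ∧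
      g ∉ y.asHomogeneousIdeal ∧ (∀ z ∈ T', z ≠ y → g ∈ z.asHomogeneousIdeal) ∧ ∀ x ∈ W, g ∈ x.asHomogeneousIdeal := by
    intro y hy
    obtain ⟨e₀, f, hf0, hfy, hfW⟩ := hf y hy
    choose e a ha hay haz using fun z : {z // z ∈ T'.erase y} =>
      hsep y hy z.1 (Finset.mem_of_mem_erase z.2) (Finset.ne_of_mem_erase z.2)
    have hp : (f * ∏ z, a z).IsHomogeneous (e₀ + ∑ z, e z) :=
      hf0.mul (MvPolynomial.IsHomogeneous.prod _ _ _ fun z _ => ha z)
    have hpy : f * ∏ z, a z ∉ y.asHomogeneousIdeal := fun h => by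
      rcases y.isPrime.mem_or_mem h with h | h
      · exact hfy h
      · obtain ⟨z, -, hz⟩ := (y.isPrime.prod_mem_iff).1 h
        exact hay z hz
    obtain ⟨e', b, he', hb, hby⟩ := exists_pos_degree hp hpy
    refine ⟨e', _, he', hb, hby, fun z hz hzy => ?_, fun x hx => ?_⟩
    · refine Ideal.mul_mem_right _ _ (Ideal.mul_mem_left _ _ ?_)
      have hmem : z ∈ T'.erase y := Finset.mem_erase.2 ⟨hzy, hz⟩
      rw [← Finset.mul_prod_erase _ _ (Finset.mem_univ ⟨z, hmem⟩)]
      exact Ideal.mul_mem_right _ _ (haz ⟨z, hmem⟩)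
    · refine Ideal.mul_mem_right _ _ (Ideal.mul_mem_right _ _ ?_)
      exact not_not.1 fun hxf => Set.disjoint_left.1 hfW hxf hx
  choose e g he hgh hgy hgz hgW using fun y : {y // y ∈ T'} => hg y.1 y.2
  let D := ∏ y, e y
  have hD : 0 < D := Finset.prod_pos fun y _ => he y
  have hdvd : ∀ y, e y ∣ D := fun y => Finset.dvd_prod_of_mem _ (Finset.mem_univ y)
  have hpos : ∀ y, 0 < D / e y := fun y => Nat.div_pos (Nat.le_of_dvd hD (hdvd y)) (he y)
  refine ⟨D, ∑ y, g y ^ (D / e y), hD, ?_, ?_, ?_⟩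
  · refine MvPolynomial.IsHomogeneous.sum _ _ _ fun y _ => ?_
    have := (hgh y).pow (D / e y)
    rwa [Nat.mul_div_cancel' (hdvd y)] at this
  · refine Set.disjoint_left.2 fun x hx hxW => hx ?_
    exact Submodule.sum_mem _ fun y _ => Ideal.pow_mem_of_mem _ (hgW y x hxW) _ (hpos y)
  · intro z hz hzmem
    obtain ⟨y, hy, hzy⟩ := hmax z hz
    have hmem : ∑ y', g y' ^ (D / e y') ∈ y.asHomogeneousIdeal.toIdeal := hzy hzmem
    rw [← Finset.add_sum_erase _ _ (Finset.mem_univ (⟨y, hy⟩ : {y // y ∈ T'}))] at hmem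
    refine hgy ⟨y, hy⟩ (y.isPrime.mem_of_pow_mem _ ((Ideal.add_mem_iff_left _ ?_).1 hmem))
    refine Submodule.sum_mem _ fun w hw => Ideal.pow_mem_of_mem _ (hgz w y hy fun h => ?_) _ (hpos w)
    exact Finset.ne_of_mem_erase hw (Subtype.ext h.symm)

end GrothLib.AffCover20
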